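import Cfsg.Agent.Lib.Spor.JFourType.Facts22.Checks

/-!
# Data and checks for the further facts
-/

set_option autoImplicit false
set_option maxRecDepth 20000

namespace CfsgLib.Spor.JFourType

open Cfsg

/-- An outer involution, a member of the abelian subgroup of order 32 and an element carrying one to the other. -/
def convOut : List (ℕ × ℕ × ℕ) := [
  (5, 44, 0xbada28d51383c2a399854d9c490e80),
  (24, 19, 0x3204495f132e74ad9ca0c9a811c77),
  (28, 19, 0xbc8cb0c0a26566f8a5c44369638d40),
  (42, 44, 0xb8690494433c6ce42c8694d4f6d580),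
  (43, 19, 0x4ce482de8329d56c58590e9612437),
  (48, 19, 0xbd8d19a9842a21478dc9a9d6d90820),
  (74, 44, 0xb86c74b11282de2518b51d1d3245a0),
  (91, 44, 0xbacd024d553bda870e5664445a0520),
  (98, 19, 0x154d5c089ab9947a2530c4c21d8f7),
  (104, 44, 0xb987322ce8826b47a831936ce11580),
  (135, 19, 0xbc84d38e88ab94f30573b3091824a0),
  (143, 19, 0x4d2690a882162d7d9cb806ac50cf7),
  (146, 44, 0xbb4878d10584ea250e4f331cbb2420),
  (150, 44, 0xb9070925869c6a1558e2438ad5be80),
  (177, 19, 0x1e2d90488a954f30e6bb32824c1d7),
  (183, 19, 0x5a2d42df2aa544a41c13b0c228e77),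
  (194, 19, 0x2c4e6987145552a4d25241e765837),
  (204, 19, 0xad5894ca6ace4a0e69649e80ba17),
  (232, 19, 0x1e15b26886ac6620941939f32b237),
  (242, 44, 0xb8ec795449811e8745ac0d153598a0)]

/-- A code of an element of the stabilizer of the pair. -/
def pairOk (c : ℕ) : Bool :=
  isM24Code c && (((permFn c 23 == 23) && (permFn c 0 == 0)) || ((permFn c 23 == 0) && (permFn c 0 == 23)))

/-- An outer involution is carried into the abelian subgroup of order 32. -/
def outRow (i : ℕ) : Bool :=
  (permFn (el i) 23 == 23) || (!(sqCode (el i))) || mRR.testBit i || convOut.any fun q =>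
    (q.1 == i) && (decide (q.2.1 < 256) && (pairOk q.2.2 && (mRR.testBit q.2.1 && twine q.2.2 (el i) (el q.2.1))))

theorem out_ok : (List.range 256).all outRow = true := by decide +kernel

/-- The octad of a second hexad. -/
def mO2 : ℕ := 11010247

/-- An element carrying the first octad to the second. -/
def hexG : ℕ := 0xba6421a8e4ab4b332ed143c3063a80

/-- The first involution. -/
def hexA : ℕ := 97

/-- The second involution. -/
def hexB : ℕ := 120

/-- The outer involution. -/
def hexS : ℕ := 137

/-- The code maps both octads to themselves. -/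
def keepsBoth (c : ℕ) : Bool := keepsO c && (permMask c mO2 == mO2)

theorem hex_ok : inM22 hexG = true ∧ permMask hexG mO = mO2 ∧
    (permFn (el hexA) 23 == 23) = true ∧ (permFn (el hexB) 23 == 23) = true ∧ (permFn (el hexS) 23 != 23) = true ∧
    sqCode (el hexA) = true ∧ sqCode (el hexB) = true ∧ sqCode (el hexS) = true ∧
    keepsBoth (el hexA) = true ∧ keepsBoth (el hexB) = true ∧ keepsBoth (el hexS) = true ∧
    keepsBoth threeA = true ∧ keepsBoth threeB = true ∧
    commCodes (el hexS) (el hexA) = true ∧ commCodes (el hexS) (el hexB) = true := by decide +kernel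

theorem hex_ord : powCode (permMulCode (el hexA) (el hexB)) 4 = idPacked ∧
    powCode (permMulCode (el hexA) (el hexB)) 2 ≠ idPacked := by decide +kernel

theorem hex_free : ((List.range 256).all fun i =>
    !(mI.testBit i) || (i == 0) || (permMask (el i) mO2 != mO2)) = true := by decide +kernel

theorem fix_masks : commonFix mI = mO ∧ commonFix mR = 9469953 ∧
    cleanList (threeExps.map threeElt) = true := by decide +kernel

end CfsgLib.Spor.JFourType
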